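import Groth.Agent.Lib.ResProp22.Ample
import Groth.Agent.Lib.CMReg.Free
import Groth.Agent.Lib.Cube.DivisorSection
import Groth.Agent.Lib.NegTwist.Basic
import Groth.Agent.Lib.Cohom.Vanishing
import Groth.Agent.Lib.QCoh.SupportExact

/-!
# Cohomological dimension is tested on the negative powers of an ample module
-/

set_option autoImplicit false
set_option linter.all false
set_option backward.isDefEq.respectTransparency false
set_option maxHeartbeats 1000000

universe u

open CategoryTheory Limits AlgebraicGeometry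

noncomputable section

namespace GrothLib.AmpleCd10

variable {X : Scheme.{u}} [IsLocallyNoetherian X] {L M : X.Modules} (hL : CohB1.IsAmple L) (hM : ClSub.IsInverseOf M L)

theorem subsingleton_HH_of_iso {X : Scheme.{u}} {M N : X.Modules} (e : M ≅ N) (n : ℕ)
    (h : Subsingleton (Coh.HH X M n)) : Subsingleton (Coh.HH X N n) := by
  refine subsingleton_of_forall_eq 0 fun x => ?_
  have h1 : Sheaf.H.map ((QCoh.toAbFun X).map e.hom) n (Sheaf.H.map ((QCoh.toAbFun X).map e.inv) n x) = x := by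
    rw [← Sheaf.H.map_comp_apply, ← Functor.map_comp, e.inv_hom_id, CategoryTheory.Functor.map_id,
      Sheaf.H.map_id_apply]
  rw [← h1, h.elim (Sheaf.H.map ((QCoh.toAbFun X).map e.inv) n x) 0, map_zero]

include hL hM

theorem exists_epi (F : X.Modules) (hF : Coh.IsCoh F) (m₀ : ℕ) :
    ∃ (n N : ℕ) (E : X.Modules) (p : E ⟶ F), m₀ ≤ n ∧ Epi p ∧ Coh.IsCoh E ∧
      Nonempty (E ≅ ∐ fun _ : Fin N => CohB1.tensorPow M n) := by
  haveI : CompactSpace X := hL.2.1
  haveI : F.IsQuasicoherent := hF.1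
  obtain ⟨c, ⟨e⟩⟩ := Ample.exists_cocycle hL.1
  have hMinv : PicF.IsInvertible M := by
    obtain ⟨e'⟩ := NegTwist.nonempty_iso_inv c (show ClSub.IsInverseOf L M from
      ⟨(((OX.tensorBraiding (X := X)).app L).app M).symm ≪≫ hM.some⟩) e
    exact (NegTwist.inv c).isInvertible_of_iso e'
  have hfin : ∀ p : X, ∃ O : X.Opens, p ∈ O ∧ ∀ W : X.Opens, IsAffineOpen W → W ≤ O → Module.Finite Γ(X, W) Γ(F, W) :=
    fun p => ⟨⊤, trivial, fun W hW _ => QCoh.moduleFinite_of_isFiniteType F hF.2 hW⟩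
  obtain ⟨n₀, hn⟩ := c.eventually_isGloballyGenerated F ((c.isAmple_iff e).1 hL).2 hfin
  let n := max n₀ m₀
  haveI := c.isQuasicoherent_modTwist F n
  obtain ⟨ι, s, hs⟩ := CurveMult.spanned_of_isGloballyGenerated (hn n (le_max_left _ _))
  obtain ⟨N, t, ht⟩ := Ample.exists_finite_spanned _ (fun p => c.finite_modTwist F n hfin p) s hs
  obtain ⟨p, hp⟩ := Ample.exists_epi_free _ ht
  obtain ⟨a⟩ := c.nonempty_tensor_modTwist F n
  obtain ⟨d⟩ := c.nonempty_tensorPow_iso e n
  have hK : PicF.IsInvertible (c.twist n) := c.isInvertible_twist n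
  have hLn := Ample.isInvertible_tensorPow hL.1 n
  have hMn := Ample.isInvertible_tensorPow hMinv n
  have hb : Nonempty (CohB1.tensorMod (c.twist n) (CohB1.tensorPow M n) ≅ Coh.structureModule X) := by
    refine (Cube.clsMod_eq_one_iff (Ample.isInvertible_tensorMod hK hMn)).1 ?_
    rw [Cube.clsMod_tensorMod hK hMn, (Cube.clsMod_eq_iff hK hLn).2 ⟨d.symm⟩, Cube.clsMod_tensorPow hMinv,
      Cube.clsMod_tensorPow hL.1, Cube.clsMod_eq_inv_of_isInverseOf hMinv hL.1 hM, inv_pow, mul_inv_cancel]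
  obtain ⟨b⟩ := hb
  let G := Euler.tF (CohB1.tensorPow M n)
  haveI : PreservesColimitsOfSize.{0, 0} G := preservesColimitsOfSize_shrink.{0, u, 0, u} _
  let back : G.obj (c.modTwist F n) ≅ F :=
    G.mapIso a.symm ≪≫ OX.tensorAssoc F (c.twist n) (CohB1.tensorPow M n) ≪≫
      ((DCoh.tensorBi (X := X)).obj F).mapIso b ≪≫ Euler.tFUnitIso F
  haveI : Epi p := hp
  haveI : Epi (G.map p) := inferInstance
  refine ⟨n, N, G.obj (FlatMod.freeMod X N), G.map p ≫ back.hom, le_max_right _ _, epi_comp _ _,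
    Euler.isCoh_of_isFinLocFree (OX.isFinLocFree_tensor (OX.isFinLocFree_freeMod X N)
      (Euler.isFinLocFree_of_isInvertible hMn)), ⟨?_⟩⟩
  exact PreservesCoproduct.iso G _ ≪≫ Sigma.mapIso fun _ => OX.tensorUnitLeftIso _

theorem vanish [QuasiSeparatedSpace X] (r : ℕ)
    (hneg : ∃ m₀ : ℕ, ∀ m : ℕ, m₀ ≤ m → ∀ i : ℕ, r < i → Subsingleton (Coh.HH X (CohB1.tensorPow M m) i))
    (F : X.Modules) (hF : Coh.IsCoh F) (i : ℕ) (hi : r < i) : Subsingleton (Coh.HH X F i) := by
  haveI : CompactSpace X := hL.2.1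
  obtain ⟨d, hd⟩ := Cohom.exists_vanishFrom_of_isCompact (X := X) (V := ⊤) (by simpa using isCompact_univ)
  obtain ⟨m₀, hm₀⟩ := hneg
  suffices h : ∀ (j : ℕ) (F : X.Modules), Coh.IsCoh F → ∀ i, r < i → d ≤ i + j → Subsingleton (Coh.HH X F i) from
    h d F hF i hi (by omega)
  intro j
  induction j with
  | zero =>
    intro F hF i _ hid
    haveI := hF.1
    exact (hd F).subsingleton_HH hid
  | succ j ih =>
    intro F hF i hi hid
    obtain ⟨n, N, E, p, hn, hp, hE, ⟨e⟩⟩ := exists_epi hL hM F hF m₀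
    haveI := hp
    have hK := QCoh.isCoh_kernel p hE hF
    let S := ShortComplex.mk (kernel.ι p) p (kernel.condition p)
    have hS : S.ShortExact :=
      { exact := ShortComplex.exact_of_f_is_kernel _ (kernelIsKernel p) }
    have hEi : Subsingleton (Coh.HH X E i) :=
      subsingleton_HH_of_iso e.symm i
        (CMReg.subsingleton_HH_sigma _ fun _ => hm₀ n hn i hi)
    exact CMReg.subsingleton_X₃ hS hEi (ih _ hK (i + 1) (by omega) (by omega))

end GrothLib.AmpleCd10
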